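/-
helper11: basic lemmas for S3905 (normal subgroup `N` of `G` such that `C_G(x)` is a maximal
subgroup of `G` for every `x ∈ N \ Z(N)`).
-/
import Mathlib
import Cfsg.Agent.S3904

set_option autoImplicit false
set_option linter.unusedSectionVars false
set_option linter.unusedVariables false

namespace Cfsg.Agent.Helper11.RelMax

variable {G : Type*} [Group G] [Finite G]

/-- centralizer of an element -/
abbrev cz (x : G) : Subgroup G := Subgroup.centralizer ({x} : Set G)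

theorem mem_cz {x g : G} : g ∈ cz x ↔ g * x = x * g := Subgroup.mem_centralizer_singleton_iff

theorem self_mem_cz (x : G) : x ∈ cz x := mem_cz.2 rfl

variable (N : Subgroup G)

/-- `Z(N)` as a subgroup of `G`. -/
def ZN : Subgroup G := N ⊓ Subgroup.centralizer (N : Set G)

theorem mem_ZN {x : G} : x ∈ ZN N ↔ x ∈ N ∧ x ∈ Subgroup.centralizer (N : Set G) := Subgroup.mem_inf

instance ZN_normal [N.Normal] : (ZN N).Normal := by
  unfold ZN; infer_instance

theorem ZN_le : ZN N ≤ N := inf_le_left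

/-- the hypothesis of S3905 -/
def Hyp : Prop :=
  ∀ x : G, x ∈ N → x ∉ Subgroup.centralizer (N : Set G) → IsCoatom (cz x)

variable {N}

theorem comm_of_mem_ZN {z n : G} (hz : z ∈ ZN N) (hn : n ∈ N) : n * z = z * n :=
  (Subgroup.mem_centralizer_iff.1 (mem_ZN N |>.1 hz).2) n hn

theorem ZN_le_cz {x : G} (hx : x ∈ N) : ZN N ≤ cz x := by
  intro z hz
  rw [mem_cz]
  exact (comm_of_mem_ZN hz hx).symm

theorem not_mem_ZN {x : G} (hxZ : x ∉ Subgroup.centralizer (N : Set G)) : x ∉ ZN N :=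
  fun h => hxZ ((mem_ZN N).1 h).2

theorem not_le_cz {x : G} (hx : x ∈ N) (hxZ : x ∉ Subgroup.centralizer (N : Set G)) :
    ¬ N ≤ cz x := by
  intro hle
  apply hxZ
  rw [Subgroup.mem_centralizer_iff]
  intro n hn
  exact mem_cz.1 (hle hn)

theorem cz_ne_top {x : G} (hx : x ∈ N) (hxZ : x ∉ Subgroup.centralizer (N : Set G)) :
    cz x ≠ ⊤ := fun h => not_le_cz hx hxZ (h ▸ le_top)

section Hyp

variable [N.Normal] (h : Hyp N)
include h

theorem sup_cz_eq_top {x : G} (hx : x ∈ N) (hxZ : x ∉ Subgroup.centralizer (N : Set G)) :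
    N ⊔ cz x = ⊤ := by
  rcases (h x hx hxZ).le_iff.1 (le_sup_right : cz x ≤ N ⊔ cz x) with h1 | h1
  · exact h1
  · exfalso
    apply not_le_cz hx hxZ
    rw [← h1]; exact le_sup_left

/-- (L1) -/
theorem cz_eq_of_le {x u : G} (hx : x ∈ N) (hxZ : x ∉ Subgroup.centralizer (N : Set G))
    (hu : u ∈ N) (huZ : u ∉ Subgroup.centralizer (N : Set G)) (hle : cz x ≤ cz u) :
    cz u = cz x := by
  rcases (h x hx hxZ).le_iff.1 hle with h1 | h1
  · exact absurd h1 (cz_ne_top hu huZ)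
  · exact h1

/-- every element of `G` is a product `n * m` -/
theorem exists_mul {x : G} (hx : x ∈ N) (hxZ : x ∉ Subgroup.centralizer (N : Set G)) (g : G) :
    ∃ n ∈ N, ∃ m ∈ cz x, g = n * m := by
  have h1 : g ∈ N ⊔ cz x := by rw [sup_cz_eq_top h hx hxZ]; exact Subgroup.mem_top g
  rw [← SetLike.mem_coe, Subgroup.normal_mul] at h1
  obtain ⟨n, hn, m, hm, rfl⟩ := Set.mem_mul.1 h1
  exact ⟨n, hn, m, hm, rfl⟩

/-- (L2) -/
theorem normal_le_or (K : Subgroup G) [K.Normal] {x : G} (hx : x ∈ N)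
    (hxZ : x ∉ Subgroup.centralizer (N : Set G)) : K ≤ cz x ∨ K ⊔ cz x = ⊤ := by
  rcases (h x hx hxZ).le_iff.1 (le_sup_right : cz x ≤ K ⊔ cz x) with h1 | h1
  · right; exact h1
  · left; rw [← h1]; exact le_sup_left

omit h in
/-- Dedekind -/
theorem dedekind {K : Subgroup G} [K.Normal] (hKN : K ≤ N) {x : G}
    (hsup : K ⊔ cz x = ⊤) {n : G} (hn : n ∈ N) : ∃ k ∈ K, ∃ c ∈ N ⊓ cz x, n = k * c := by
  have h1 : n ∈ K ⊔ cz x := by rw [hsup]; exact Subgroup.mem_top n
  rw [← SetLike.mem_coe, Subgroup.normal_mul] at h1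
  obtain ⟨k, hk, c, hc, rfl⟩ := Set.mem_mul.1 h1
  refine ⟨k, hk, c, Subgroup.mem_inf.2 ⟨?_, hc⟩, rfl⟩
  have : c = k⁻¹ * (k * c) := by group
  rw [this]
  exact mul_mem (inv_mem (hKN hk)) hn

/-- a normal subgroup `L` of `G` with `N ⊓ cz x ≤ L ≤ N` is `N ⊓ cz x` or `N` -/
theorem normal_between (L : Subgroup G) [L.Normal] {x : G} (hx : x ∈ N)
    (hxZ : x ∉ Subgroup.centralizer (N : Set G)) (hLN : L ≤ N) :
    L ≤ N ⊓ cz x ∨ N ≤ L ⊔ (N ⊓ cz x) := by
  rcases normal_le_or h L hx hxZ with h1 | h1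
  · left; exact le_inf hLN h1
  · right
    intro n hn
    obtain ⟨k, hk, c, hc, rfl⟩ := dedekind hLN h1 hn
    exact mul_mem (Subgroup.mem_sup_left hk) (Subgroup.mem_sup_right hc)

end Hyp

end Cfsg.Agent.Helper11.RelMax
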