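/-
helper11: orders modulo `Z(N)`, coprime commuting elements, nilpotency of `C_N(x)` (S3905).
-/
import Cfsg.Agent.Helper11.RelMax.Basic

set_option autoImplicit false
set_option linter.unusedSectionVars false
set_option linter.unusedVariables false
set_option linter.style.haveILetI false

namespace Cfsg.Agent.Helper11.RelMax

variable {G : Type*} [Group G] [Finite G] (N : Subgroup G) [N.Normal]

/-- quotient map modulo `Z(N)` -/
abbrev qz : G →* G ⧸ ZN N := QuotientGroup.mk' (ZN N)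

/-- order modulo `Z(N)` -/
noncomputable abbrev oz (x : G) : ℕ := orderOf (qz N x)

variable {N}

theorem qz_eq_one_iff {x : G} : qz N x = 1 ↔ x ∈ ZN N := QuotientGroup.eq_one_iff x

theorem oz_eq_one_iff {x : G} : oz N x = 1 ↔ x ∈ ZN N := by
  rw [oz, orderOf_eq_one_iff, qz_eq_one_iff]

theorem oz_pos (x : G) : 0 < oz N x := orderOf_pos _

theorem pow_oz_mem (x : G) : x ^ oz N x ∈ ZN N := by
  rw [← qz_eq_one_iff, map_pow, pow_orderOf_eq_one]

theorem pow_mem_ZN_of_oz {p k : ℕ} {g : G} (hk : oz N g = p ^ k) : g ^ (p ^ k) ∈ ZN N := by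
  rw [← hk]; exact pow_oz_mem g

theorem not_cent_of_not_mem_ZN {x : G} (hx : x ∈ N) (hxZ : x ∉ ZN N) :
    x ∉ Subgroup.centralizer (N : Set G) := fun h => hxZ ((mem_ZN N).2 ⟨hx, h⟩)

theorem oz_ne_one {x : G} (hxZ : x ∉ Subgroup.centralizer (N : Set G)) : oz N x ≠ 1 :=
  fun h => not_mem_ZN hxZ (oz_eq_one_iff.1 h)

/-- `x ^ p ∈ Z(N)` and `x ∉ Z(N)` give order `p` mod `Z(N)` -/
theorem oz_eq_prime {x : G} {p : ℕ} (hp : p.Prime) (hxp : x ^ p ∈ ZN N) (hxZ : x ∉ ZN N) :
    oz N x = p := by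
  have h1 : (qz N x) ^ p = 1 := by rw [← map_pow, qz_eq_one_iff]; exact hxp
  have h2 : oz N x ∣ p := orderOf_dvd_of_pow_eq_one h1
  rcases (Nat.dvd_prime hp).1 h2 with h3 | h3
  · exact absurd (oz_eq_one_iff.1 h3) hxZ
  · exact h3

section Hyp

variable (h : Hyp N)
include h

/-- power with the same centraliser -/
theorem cz_pow_eq {x : G} (hx : x ∈ N) {k : ℕ}
    (hxk : x ^ k ∉ Subgroup.centralizer (N : Set G)) : cz (x ^ k) = cz x := by
  have hxZ : x ∉ Subgroup.centralizer (N : Set G) := fun h' => hxk (pow_mem h' k)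
  apply cz_eq_of_le h hx hxZ (pow_mem hx k) hxk
  intro g hg
  rw [mem_cz] at hg ⊢
  exact ((Commute.pow_right (show Commute g x from hg) k)).eq

/-- prime-order power -/
theorem exists_prime_pow {x : G} (hx : x ∈ N) {q : ℕ} (hq : q.Prime) (hqx : q ∣ oz N x) :
    ∃ x' : G, x' ∈ N ∧ x' ∉ Subgroup.centralizer (N : Set G) ∧ oz N x' = q ∧ cz x' = cz x ∧
      x' ∈ Subgroup.zpowers x := by
  have ho : oz N (x ^ (oz N x / q)) = q := by
    rw [oz, map_pow, orderOf_pow_orderOf_div (oz_pos x).ne' hqx]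
  have hZ : x ^ (oz N x / q) ∉ ZN N := by
    rw [← oz_eq_one_iff, ho]; exact hq.one_lt.ne'
  have hc := not_cent_of_not_mem_ZN (pow_mem hx _) hZ
  exact ⟨x ^ (oz N x / q), pow_mem hx _, hc, ho, cz_pow_eq h hx hc,
    Subgroup.pow_mem _ (Subgroup.mem_zpowers x) _⟩

end Hyp

section CaseB

variable (hB : ZN N ≤ Subgroup.center G)
include hB

theorem ZN_le_cz' (g : G) : ZN N ≤ cz g := hB.trans (Subgroup.center_le_centralizer _)

/-- if `g` commutes with `x*y`, `x y` commute, coprime orders mod `Z(N)`, then `g` commutes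
with `x` -/
theorem cz_mul_le_left {x y : G} (hxy : x * y = y * x) (hco : (oz N x).Coprime (oz N y)) :
    cz (x * y) ≤ cz x := by
  intro g hg
  have hZD : ZN N ≤ cz g := ZN_le_cz' hB g
  have hw : x * y ∈ cz g := by
    rw [mem_cz] at hg ⊢
    exact hg.symm
  have hwn : (x * y) ^ oz N y ∈ cz g := Subgroup.pow_mem _ hw _
  have hc : Commute x y := hxy
  rw [hc.mul_pow] at hwn
  have hyn : y ^ oz N y ∈ cz g := hZD (pow_oz_mem y)
  have hxn : x ^ oz N y ∈ cz g := by
    have := Subgroup.mul_mem _ hwn (Subgroup.inv_mem _ hyn)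
    simpa using this
  obtain ⟨m, hm⟩ := exists_pow_eq_self_of_coprime (x := qz N x) (n := oz N y) hco.symm
  have h1 : qz N ((x ^ oz N y) ^ m) = qz N x := by
    rw [map_pow, map_pow]; exact hm
  have h2 : x⁻¹ * (x ^ oz N y) ^ m ∈ ZN N := by
    rw [← qz_eq_one_iff, map_mul, map_inv, h1, inv_mul_cancel]
  have h3 : x ∈ cz g := by
    have h4 : (x ^ oz N y) ^ m ∈ cz g := Subgroup.pow_mem _ hxn _
    have h5 := Subgroup.mul_mem _ h4 (Subgroup.inv_mem _ (hZD h2))
    have h6 : (x ^ oz N y) ^ m * (x⁻¹ * (x ^ oz N y) ^ m)⁻¹ = x := by group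
    rw [h6] at h5
    exact h5
  rw [mem_cz] at h3 ⊢
  exact h3.symm

variable (h : Hyp N)
include h

/-- (F2) commuting elements of coprime orders mod `Z(N)` have the same centraliser -/
theorem cz_eq_of_coprime {x y : G} (hx : x ∈ N) (hxZ : x ∉ Subgroup.centralizer (N : Set G))
    (hy : y ∈ N) (hyZ : y ∉ Subgroup.centralizer (N : Set G)) (hxy : x * y = y * x)
    (hco : (oz N x).Coprime (oz N y)) : cz x = cz y := by
  have h1 : cz (x * y) ≤ cz x := cz_mul_le_left hB hxy hco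
  have h2 : cz (x * y) ≤ cz y := by
    rw [hxy]
    exact cz_mul_le_left hB hxy.symm hco.symm
  by_cases hw : x * y ∈ Subgroup.centralizer (N : Set G)
  · have hwc : x * y ∈ Subgroup.center G := hB ((mem_ZN N).2 ⟨mul_mem hx hy, hw⟩)
    ext g
    rw [mem_cz, mem_cz]
    have hwg : g * (x * y) = (x * y) * g := (Subgroup.mem_center_iff.1 hwc g)
    constructor
    · intro hgx
      have : x * (y * g) = x * (g * y) := by
        calc x * (y * g) = (x * y) * g := by group
          _ = g * (x * y) := hwg.symm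
          _ = (g * x) * y := by group
          _ = (x * g) * y := by rw [hgx]
          _ = x * (g * y) := by group
      exact (mul_left_cancel this).symm
    · intro hgy
      have : (x * g) * y = (g * x) * y := by
        calc (x * g) * y = x * (g * y) := by group
          _ = x * (y * g) := by rw [hgy]
          _ = (x * y) * g := by group
          _ = g * (x * y) := hwg.symm
          _ = (g * x) * y := by group
      exact (mul_right_cancel this).symm
  · have e1 : cz x = cz (x * y) := cz_eq_of_le h (mul_mem hx hy) hw hx hxZ h1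
    have e2 : cz y = cz (x * y) := cz_eq_of_le h (mul_mem hx hy) hw hy hyZ h2
    rw [e1, e2]

/-- Lemma B: a nonabelian `C_N(x)` is a `p`-group modulo `Z(N)` -/
theorem exists_prime_of_nonabelian {x : G} (hx : x ∈ N)
    (hxZ : x ∉ Subgroup.centralizer (N : Set G))
    (hnab : ∃ a ∈ N ⊓ cz x, ∃ b ∈ N ⊓ cz x, a * b ≠ b * a) :
    ∃ p : ℕ, p.Prime ∧ ∀ g ∈ N ⊓ cz x, ∃ k : ℕ, oz N g = p ^ k := by
  obtain ⟨a, ha', b, hb', hab⟩ := hnab
  obtain ⟨haN, ha⟩ := Subgroup.mem_inf.1 ha'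
  obtain ⟨hbN, hb⟩ := Subgroup.mem_inf.1 hb'
  have haZ : a ∉ Subgroup.centralizer (N : Set G) := by
    intro h'
    exact hab ((Subgroup.mem_centralizer_iff.1 h') b hbN).symm
  have hane : cz a ≠ cz x := by
    intro h'
    rw [← h', mem_cz] at hb
    exact hab hb.symm
  have hoa : oz N a ≠ 1 := oz_ne_one haZ
  obtain ⟨p, hp, hpa⟩ := Nat.exists_prime_and_dvd hoa
  obtain ⟨y', hy'N, hy'Z, hy'o, hy'c, hy'mem⟩ := exists_prime_pow h haN hp hpa
  have hzax : Subgroup.zpowers a ≤ cz x := by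
    rw [Subgroup.zpowers_le]; exact ha
  have hy'x : y' ∈ cz x := hzax hy'mem
  have key1 : ∀ g : G, g ∈ N → g ∉ Subgroup.centralizer (N : Set G) → cz g = cz x →
      (oz N g).Prime → oz N g = p := by
    intro g hgN hgZ hgc hgp
    by_contra hne
    have hco : (oz N g).Coprime (oz N y') := by
      rw [hy'o]; exact (Nat.coprime_primes hgp hp).2 hne
    have hcomm : g * y' = y' * g := by
      have : y' ∈ cz g := hgc ▸ hy'x
      rw [mem_cz] at this
      exact this.symm
    have := cz_eq_of_coprime hB h hgN hgZ hy'N hy'Z hcomm hco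
    rw [hgc, hy'c] at this
    exact hane this.symm
  have hox : oz N x ≠ 1 := oz_ne_one hxZ
  obtain ⟨q₀, hq₀, hq₀x⟩ := Nat.exists_prime_and_dvd hox
  obtain ⟨x₀, hx₀N, hx₀Z, hx₀o, hx₀c, hx₀mem⟩ := exists_prime_pow h hx hq₀ hq₀x
  have hx₀p : oz N x₀ = p := key1 x₀ hx₀N hx₀Z hx₀c (hx₀o ▸ hq₀)
  have key2 : ∀ g : G, g ∈ N → g ∈ cz x → g ∉ Subgroup.centralizer (N : Set G) →
      (oz N g).Prime → oz N g = p := by
    intro g hgN hg hgZ hgp
    by_cases hgc : cz g = cz x
    · exact key1 g hgN hgZ hgc hgp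
    · by_contra hne
      have hco : (oz N g).Coprime (oz N x₀) := by
        rw [hx₀p]; exact (Nat.coprime_primes hgp hp).2 hne
      have hcomm : g * x₀ = x₀ * g := by
        have : g ∈ cz x₀ := hx₀c ▸ hg
        rw [mem_cz] at this
        exact this
      have := cz_eq_of_coprime hB h hgN hgZ hx₀N hx₀Z hcomm hco
      rw [hx₀c] at this
      exact hgc this
  refine ⟨p, hp, ?_⟩
  intro g hg'
  obtain ⟨hgN, hg⟩ := Subgroup.mem_inf.1 hg'
  by_cases hgZ : g ∈ Subgroup.centralizer (N : Set G)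
  · exact ⟨0, by rw [pow_zero]; exact oz_eq_one_iff.2 ((mem_ZN N).2 ⟨hgN, hgZ⟩)⟩
  · refine ⟨_, Nat.eq_prime_pow_of_unique_prime_dvd (oz_pos g).ne' ?_⟩
    intro d hd hdg
    obtain ⟨g', hg'N, hg'Z, hg'o, hg'c, hg'mem⟩ := exists_prime_pow h hgN hd hdg
    have hzg : Subgroup.zpowers g ≤ cz x := by
      rw [Subgroup.zpowers_le]; exact hg
    have := key2 g' hg'N (hzg hg'mem) hg'Z (hg'o ▸ hd)
    rw [hg'o] at this
    exact this

end CaseB

/-- a subgroup of `N` which is a `p`-group mod `Z(N)` is nilpotent -/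
theorem isNilpotent_of_oz {p : ℕ} [Fact p.Prime] {L : Subgroup G} (hLN : L ≤ N)
    (hL : ∀ g ∈ L, ∃ k : ℕ, oz N g = p ^ k) : Group.IsNilpotent ↥L := by
  let f : ↥L →* G ⧸ ZN N := (qz N).comp L.subtype
  have hker : f.rangeRestrict.ker ≤ Subgroup.center ↥L := by
    rw [MonoidHom.ker_rangeRestrict]
    intro l hl
    rw [MonoidHom.mem_ker] at hl
    have h1 : (l : G) ∈ ZN N := qz_eq_one_iff.1 hl
    rw [Subgroup.mem_center_iff]
    intro n
    apply Subtype.ext
    exact comm_of_mem_ZN h1 (hLN n.2)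
  have hP : IsPGroup p ↥f.range := by
    rintro ⟨g, hg⟩
    obtain ⟨l, rfl⟩ := MonoidHom.mem_range.1 hg
    obtain ⟨k, hk⟩ := hL l l.2
    refine ⟨k, ?_⟩
    apply Subtype.ext
    rw [Subgroup.coe_pow, Subgroup.coe_one]
    show (qz N (l : G)) ^ (p ^ k) = 1
    rw [← hk]
    exact pow_orderOf_eq_one _
  haveI : Group.IsNilpotent ↥f.range := hP.isNilpotent
  exact Subgroup.isNilpotent_of_ker_le_center f.rangeRestrict hker

/-- `C_N(x)` is nilpotent -/
theorem isNilpotent_inf_cz (hB : ZN N ≤ Subgroup.center G) (h : Hyp N) {x : G} (hx : x ∈ N)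
    (hxZ : x ∉ Subgroup.centralizer (N : Set G)) : Group.IsNilpotent ↥(N ⊓ cz x) := by
  by_cases hnab : ∃ a ∈ N ⊓ cz x, ∃ b ∈ N ⊓ cz x, a * b ≠ b * a
  · obtain ⟨p, hp, hM⟩ := exists_prime_of_nonabelian hB h hx hxZ hnab
    haveI : Fact p.Prime := ⟨hp⟩
    exact isNilpotent_of_oz inf_le_left hM
  · push Not at hnab
    haveI : IsMulCommutative ↥(N ⊓ cz x) :=
      ⟨⟨fun a b => Subtype.ext (hnab a a.2 b b.2)⟩⟩
    let _ : CommGroup ↥(N ⊓ cz x) := { (inferInstance : Group ↥(N ⊓ cz x)) with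
      mul_comm := fun a b => Subtype.ext (hnab a a.2 b b.2) }
    exact CommGroup.isNilpotent
end Cfsg.Agent.Helper11.RelMax
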