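/-
helper11: the two alternatives of S3905 and the reduction lemmas used in the assembly.
-/
import Cfsg.Agent.Helper11.RelMax.Oz
import Cfsg.Prelude.Def_Solvable
import Cfsg.Prelude.Def_Transfer

set_option autoImplicit false
set_option linter.unusedSectionVars false
set_option linter.unusedVariables false

namespace Cfsg.Agent.Helper11.RelMax

variable {G : Type*} [Group G] [Finite G] (N : Subgroup G) [N.Normal]

/-- first alternative: `N / Z(N)` elementary abelian -/
def Alt1 : Prop :=
  ∃ p : ℕ, p.Prime ∧ Cfsg.IsElementaryAbelian p (⊤ : Subgroup (↥N ⧸ Subgroup.center ↥N))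

/-- second alternative: `N / Z(N)` Frobenius with elementary abelian kernel and a complement of
prime order -/
def Alt2 : Prop :=
  ∃ (Q K : Subgroup (↥N ⧸ Subgroup.center ↥N)) (p : ℕ), p.Prime ∧
    Cfsg.IsFrobeniusComplement Q ∧ (Nat.card ↥Q).Prime ∧ K.Normal ∧
    (K : Set (↥N ⧸ Subgroup.center ↥N)) = Cfsg.frobeniusKernel Q ∧ Cfsg.IsElementaryAbelian p K

variable {N}

/-- an element of `↥N` is central iff its value centralises `N` -/
theorem mem_center_sub_iff (n : ↥N) :
    n ∈ Subgroup.center ↥N ↔ (n : G) ∈ Subgroup.centralizer (N : Set G) := by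
  rw [Subgroup.mem_center_iff, Subgroup.mem_centralizer_iff]
  constructor
  · intro h' m hm
    have := h' ⟨m, hm⟩
    exact congrArg Subtype.val this
  · intro h' m
    apply Subtype.ext
    exact h' m m.2

theorem alt1_of_abelian (hab : N ≤ Subgroup.centralizer (N : Set G)) : Alt1 N := by
  refine ⟨2, Nat.prime_two, ?_, ?_⟩
  · refine ⟨⟨fun a b => ?_⟩⟩
    obtain ⟨a, _⟩ := a
    obtain ⟨b, _⟩ := b
    apply Subtype.ext
    induction a using QuotientGroup.induction_on with
    | H a =>
    induction b using QuotientGroup.induction_on with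
    | H b =>
      have ha : ((a : ↥N) : ↥N ⧸ Subgroup.center ↥N) = 1 :=
        (QuotientGroup.eq_one_iff a).2 ((mem_center_sub_iff a).2 (hab a.2))
      show (a : ↥N ⧸ Subgroup.center ↥N) * (b : ↥N ⧸ Subgroup.center ↥N) = b * a
      rw [ha, one_mul, mul_one]
  · intro a _
    induction a using QuotientGroup.induction_on with
    | H a =>
      have ha : ((a : ↥N) : ↥N ⧸ Subgroup.center ↥N) = 1 :=
        (QuotientGroup.eq_one_iff a).2 ((mem_center_sub_iff a).2 (hab a.2))
      rw [ha, one_pow]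

/-- the dichotomy: if no noncentral element of `N` is central modulo `Z(N)` in `G`, then
commutators with noncentral elements of `N` lying in `Z(N)` are trivial -/
theorem alpha_of_not_beta (h : Hyp N)
    (hβ : ¬ ∃ k ∈ N, k ∉ Subgroup.centralizer (N : Set G) ∧ ∀ g : G, g * k * g⁻¹ * k⁻¹ ∈ ZN N) :
    ∀ x ∈ N, x ∉ Subgroup.centralizer (N : Set G) → ∀ g : G, g * x * g⁻¹ * x⁻¹ ∈ ZN N →
      g * x = x * g := by
  intro x hx hxZ g hg
  set C : Subgroup G := (Subgroup.centralizer ({qz N x} : Set (G ⧸ ZN N))).comap (qz N) with hC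
  have hmemC : ∀ g : G, g ∈ C ↔ g * x * g⁻¹ * x⁻¹ ∈ ZN N := by
    intro g
    rw [hC, Subgroup.mem_comap, Subgroup.mem_centralizer_singleton_iff, ← map_mul, ← map_mul,
      ← qz_eq_one_iff (N := N)]
    constructor
    · intro h1
      have : g * x * g⁻¹ * x⁻¹ = (g * x) * (x * g)⁻¹ := by group
      rw [this, map_mul, map_inv, h1, mul_inv_cancel]
    · intro h1
      have : g * x * g⁻¹ * x⁻¹ = (g * x) * (x * g)⁻¹ := by group
      rw [this, map_mul, map_inv] at h1
      exact mul_inv_eq_one.1 h1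
  have hle : cz x ≤ C := by
    intro m hm
    rw [hmemC]
    have : m * x * m⁻¹ * x⁻¹ = 1 := by
      rw [mem_cz.1 hm]; group
    rw [this]; exact one_mem _
  rcases (h x hx hxZ).le_iff.1 hle with h1 | h1
  · exfalso
    apply hβ
    refine ⟨x, hx, hxZ, fun g => ?_⟩
    rw [← hmemC, h1]; exact Subgroup.mem_top g
  · have : g ∈ cz x := by rw [← h1, hmemC]; exact hg
    exact mem_cz.1 this

/-- a minimal normal subgroup of `G` strictly between `Z(N)` and `N` -/
theorem exists_min_normal (hnab : ¬ N ≤ Subgroup.centralizer (N : Set G)) :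
    ∃ K : Subgroup G, K.Normal ∧ ZN N < K ∧ K ≤ N ∧
      ∀ L : Subgroup G, L.Normal → ZN N < L → L ≤ K → L = K := by
  have hex : ∃ K : Subgroup G, K.Normal ∧ ZN N < K ∧ K ≤ N := by
    refine ⟨N, inferInstance, lt_of_le_of_ne (ZN_le N) ?_, le_rfl⟩
    intro heq
    apply hnab
    intro n hn
    rw [← heq] at hn
    exact ((mem_ZN N).1 hn).2
  obtain ⟨K, hK⟩ := exists_minimal_of_wellFoundedLT
    (fun K : Subgroup G => K.Normal ∧ ZN N < K ∧ K ≤ N) hex
  obtain ⟨⟨hKn, hZK, hKN⟩, hmin⟩ := hK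
  refine ⟨K, hKn, hZK, hKN, ?_⟩
  intro L hLn hZL hLK
  exact le_antisymm hLK (hmin ⟨hLn, hZL, hLK.trans hKN⟩ hLK)

end Cfsg.Agent.Helper11.RelMax
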