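/-
helper11: S3905, the case of an abelian minimal normal subgroup `K` (structure at the level of `G`).
-/
import Cfsg.Agent.Helper11.RelMax.Defs

set_option autoImplicit false
set_option linter.unusedSectionVars false
set_option linter.unusedVariables false
set_option linter.style.haveILetI false

namespace Cfsg.Agent.Helper11.RelMax

open scoped commutatorElement

variable {G : Type*} [Group G] [Finite G] {N : Subgroup G} [N.Normal]

/-- (T2) in case B every commutator `[g, u]`, `u ∈ N`, lies in `[N, N]` -/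
theorem comm_mem_commutator (h : Hyp N) (hB : ZN N ≤ Subgroup.center G) {u : G} (hu : u ∈ N)
    (g : G) : g * u * g⁻¹ * u⁻¹ ∈ ⁅N, N⁆ := by
  by_cases huZ : u ∈ Subgroup.centralizer (N : Set G)
  · have huc : u ∈ Subgroup.center G := hB ((mem_ZN N).2 ⟨hu, huZ⟩)
    have : g * u * g⁻¹ * u⁻¹ = 1 := by
      rw [Subgroup.mem_center_iff.1 huc g]; group
    rw [this]; exact one_mem _
  · obtain ⟨n, hn, m, hm, rfl⟩ := exists_mul h hu huZ g
    have hmu : m * u = u * m := mem_cz.1 hm
    have : n * m * u * (n * m)⁻¹ * u⁻¹ = ⁅n, u⁆ := by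
      rw [commutatorElement_def]
      calc n * m * u * (n * m)⁻¹ * u⁻¹ = n * (m * u) * m⁻¹ * n⁻¹ * u⁻¹ := by group
        _ = n * (u * m) * m⁻¹ * n⁻¹ * u⁻¹ := by rw [hmu]
        _ = n * u * n⁻¹ * u⁻¹ := by group
    rw [this]
    exact Subgroup.commutator_mem_commutator hn hu

/-- multiplying by an element of `Z(N)` (central in `G`) does not change the centraliser -/
theorem cz_mul_central (hB : ZN N ≤ Subgroup.center G) (x : G) {z : G} (hz : z ∈ ZN N) :
    cz (x * z) = cz x := by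
  have hzc := hB hz
  ext g
  rw [mem_cz, mem_cz]
  have hgz : g * z = z * g := (Subgroup.mem_center_iff.1 hzc g)
  constructor
  · intro h1
    have : g * x * z = x * g * z := by
      calc g * x * z = g * (x * z) := by group
        _ = x * z * g := h1
        _ = x * (z * g) := by group
        _ = x * (g * z) := by rw [hgz]
        _ = x * g * z := by group
    exact mul_right_cancel this
  · intro h1
    calc g * (x * z) = g * x * z := by group
      _ = x * g * z := by rw [h1]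
      _ = x * (g * z) := by group
      _ = x * (z * g) := by rw [hgz]
      _ = x * z * g := by group

section Frob

variable (h : Hyp N) (hB : ZN N ≤ Subgroup.center G)
  (hα : ∀ x ∈ N, x ∉ Subgroup.centralizer (N : Set G) → ∀ g : G, g * x * g⁻¹ * x⁻¹ ∈ ZN N →
      g * x = x * g)
  (K : Subgroup G) [K.Normal] (hZK : ZN N < K) (hKN : K ≤ N)
  (hmin : ∀ L : Subgroup G, L.Normal → ZN N < L → L ≤ K → L = K)
  (hab : ∀ a ∈ K, ∀ b ∈ K, a * b = b * a)

include hKN in
theorem not_centN_of_not_centK {u : G} (huK : u ∉ Subgroup.centralizer (K : Set G)) :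
    u ∉ Subgroup.centralizer (N : Set G) :=
  fun h' => huK (Subgroup.centralizer_le (show (K : Set G) ⊆ N from hKN) h')

theorem K_not_le_cz {u : G} (huK : u ∉ Subgroup.centralizer (K : Set G)) : ¬ K ≤ cz u := by
  intro hle
  apply huK
  rw [Subgroup.mem_centralizer_iff]
  intro k hk
  exact mem_cz.1 (hle hk)

include hKN in
theorem not_centN_of_mem_K {k : G} (hk : k ∈ K) (hkZ : k ∉ ZN N) :
    k ∉ Subgroup.centralizer (N : Set G) := not_cent_of_not_mem_ZN (hKN hk) hkZ

include h hZK hKN hmin hab in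
/-- (F2) -/
theorem K_inf_cz {u : G} (hu : u ∈ N) (huK : u ∉ Subgroup.centralizer (K : Set G)) :
    K ⊓ cz u = ZN N := by
  have huN := not_centN_of_not_centK K hKN huK
  have hsup : K ⊔ cz u = ⊤ := by
    rcases normal_le_or h K hu huN with h1 | h1
    · exact absurd h1 (K_not_le_cz K huK)
    · exact h1
  have hLn : (K ⊓ cz u).Normal := by
    constructor
    intro l hl g
    have hg : g ∈ K ⊔ cz u := by rw [hsup]; exact Subgroup.mem_top g
    rw [← SetLike.mem_coe, Subgroup.normal_mul] at hg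
    obtain ⟨k, hk, m, hm, rfl⟩ := Set.mem_mul.1 hg
    obtain ⟨hlK, hlu⟩ := Subgroup.mem_inf.1 hl
    have h1 : m * l * m⁻¹ ∈ K ⊓ cz u :=
      Subgroup.mem_inf.2 ⟨‹K.Normal›.conj_mem l hlK m, mul_mem (mul_mem hm hlu) (inv_mem hm)⟩
    have h2 : k * (m * l * m⁻¹) * k⁻¹ = m * l * m⁻¹ := by
      rw [hab k hk _ (Subgroup.mem_inf.1 h1).1]; group
    have h3 : k * m * l * (k * m)⁻¹ = k * (m * l * m⁻¹) * k⁻¹ := by group
    rw [h3, h2]; exact h1
  have hZL : ZN N ≤ K ⊓ cz u := le_inf hZK.le (ZN_le_cz hu)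
  rcases hZL.eq_or_lt with h1 | h1
  · exact h1.symm
  · exfalso
    have := hmin (K ⊓ cz u) hLn h1 inf_le_left
    apply K_not_le_cz K huK
    rw [← this]; exact inf_le_right

include h hα hZK hKN hmin hab in
/-- (F3) elements of `N` outside `C_N(K)` act fixed-point-freely on `K / Z(N)` -/
theorem fpf {k u : G} (hk : k ∈ K) (hkZ : k ∉ ZN N) (hu : u ∈ N)
    (huK : u ∉ Subgroup.centralizer (K : Set G)) : u * k * u⁻¹ * k⁻¹ ∉ ZN N := by
  intro hmem
  have h1 := hα k (hKN hk) (not_centN_of_mem_K K hKN hk hkZ) u hmem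
  apply hkZ
  rw [← K_inf_cz h K hZK hKN hmin hab hu huK]
  exact Subgroup.mem_inf.2 ⟨hk, mem_cz.2 h1.symm⟩

include h hα hZK hKN hmin hab in
/-- (F4) -/
theorem N_inf_cz_eq {k : G} (hk : k ∈ K) (hkZ : k ∉ ZN N) :
    N ⊓ cz k = N ⊓ Subgroup.centralizer (K : Set G) := by
  apply le_antisymm
  · intro n hn
    obtain ⟨hnN, hnk⟩ := Subgroup.mem_inf.1 hn
    refine Subgroup.mem_inf.2 ⟨hnN, ?_⟩
    by_contra hnK
    apply fpf h hα K hZK hKN hmin hab hk hkZ hnN hnK
    have : n * k * n⁻¹ * k⁻¹ = 1 := by rw [mem_cz.1 hnk]; group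
    rw [this]; exact one_mem _
  · intro n hn
    obtain ⟨hnN, hnK⟩ := Subgroup.mem_inf.1 hn
    refine Subgroup.mem_inf.2 ⟨hnN, ?_⟩
    rw [mem_cz]
    exact ((Subgroup.mem_centralizer_iff.1 hnK) k hk).symm

include hZK in
theorem exists_mem_K_not_ZN : ∃ k ∈ K, k ∉ ZN N := by
  by_contra hcon
  push Not at hcon
  exact hZK.not_ge hcon

include hZK hmin hab in
/-- (F5) `K / Z(N)` has prime exponent -/
theorem exists_exponent : ∃ p : ℕ, p.Prime ∧ ∀ k ∈ K, k ^ p ∈ ZN N := by
  obtain ⟨k₀, hk₀, hk₀Z⟩ := exists_mem_K_not_ZN K hZK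
  have ho : oz N k₀ ≠ 1 := fun h' => hk₀Z (oz_eq_one_iff.1 h')
  obtain ⟨p, hp, hpd⟩ := Nat.exists_prime_and_dvd ho
  refine ⟨p, hp, ?_⟩
  -- the subgroup of elements of `K` whose `p`-th power lies in `Z(N)`
  let Kp : Subgroup G :=
    { carrier := {k | k ∈ K ∧ k ^ p ∈ ZN N}
      one_mem' := ⟨one_mem _, by rw [one_pow]; exact one_mem _⟩
      mul_mem' := by
        rintro a b ⟨ha, hap⟩ ⟨hb, hbp⟩
        refine ⟨mul_mem ha hb, ?_⟩
        have hc : Commute a b := hab a ha b hb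
        rw [hc.mul_pow]
        exact mul_mem hap hbp
      inv_mem' := by
        rintro a ⟨ha, hap⟩
        refine ⟨inv_mem ha, ?_⟩
        rw [inv_pow]; exact inv_mem hap }
  have hKpn : Kp.Normal := by
    constructor
    rintro a ⟨ha, hap⟩ g
    refine ⟨‹K.Normal›.conj_mem a ha g, ?_⟩
    have : (g * a * g⁻¹) ^ p = g * a ^ p * g⁻¹ := by
      rw [conj_pow]
    rw [this]
    exact (ZN_normal N).conj_mem _ hap g
  have hZKp : ZN N ≤ Kp := fun z hz => ⟨hZK.le hz, pow_mem hz p⟩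
  have hlt : ZN N < Kp := by
    refine lt_of_le_of_ne hZKp ?_
    intro heq
    -- `k₀ ^ (oz k₀ / p)` lies in `Kp` but not in `Z(N)`
    have ho' : oz N (k₀ ^ (oz N k₀ / p)) = p := by
      rw [oz, map_pow, orderOf_pow_orderOf_div (oz_pos k₀).ne' hpd]
    have h1 : k₀ ^ (oz N k₀ / p) ∈ Kp := by
      refine ⟨pow_mem hk₀ _, ?_⟩
      have := pow_oz_mem (N := N) (k₀ ^ (oz N k₀ / p))
      rwa [ho'] at this
    rw [← heq] at h1
    have := oz_eq_one_iff.2 h1
    rw [ho'] at this
    exact hp.one_lt.ne' this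
  have hKpK : Kp ≤ K := fun a ha => ha.1
  have := hmin Kp hKpn hlt hKpK
  intro k hk
  rw [← this] at hk
  exact hk.2

end Frob

end Cfsg.Agent.Helper11.RelMax
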