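/-
helper11: S3905, abelian minimal normal subgroup `K`: `C_N(K) = K` and `|N : K|` is prime.
-/
import Cfsg.Agent.Helper11.RelMax.Frob1

set_option autoImplicit false
set_option linter.unusedSectionVars false
set_option linter.unusedVariables false
set_option linter.style.haveILetI false

namespace Cfsg.Agent.Helper11.RelMax

open scoped commutatorElement

variable {G : Type*} [Group G] [Finite G] {N : Subgroup G} [N.Normal]

section Frob

variable (h : Hyp N) (hB : ZN N ≤ Subgroup.center G)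
  (hα : ∀ x ∈ N, x ∉ Subgroup.centralizer (N : Set G) → ∀ g : G, g * x * g⁻¹ * x⁻¹ ∈ ZN N →
      g * x = x * g)
  (K : Subgroup G) [K.Normal] (hZK : ZN N < K) (hKN : K ≤ N)
  (hmin : ∀ L : Subgroup G, L.Normal → ZN N < L → L ≤ K → L = K)
  (hab : ∀ a ∈ K, ∀ b ∈ K, a * b = b * a)

/-- `C_N(K)` -/
abbrev DD (N K : Subgroup G) : Subgroup G := N ⊓ Subgroup.centralizer (K : Set G)

include hKN hab in
theorem K_le_DD : K ≤ DD N K := by
  intro k hk
  refine Subgroup.mem_inf.2 ⟨hKN hk, ?_⟩
  rw [Subgroup.mem_centralizer_iff]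
  intro k' hk'
  exact hab k' hk' k hk

include hZK hKN in
theorem exists_not_centK : ∃ u ∈ N, u ∉ Subgroup.centralizer (K : Set G) := by
  obtain ⟨k, hk, hkZ⟩ := exists_mem_K_not_ZN K hZK
  have hkN := not_centN_of_mem_K K hKN hk hkZ
  rw [Subgroup.mem_centralizer_iff] at hkN
  push Not at hkN
  obtain ⟨n, hn, hne⟩ := hkN
  refine ⟨n, hn, ?_⟩
  intro hnK
  exact hne ((Subgroup.mem_centralizer_iff.1 hnK) k hk).symm

include h hZK hKN hmin hab in
/-- `N = C_N(K) * C_N(u)` -/
theorem exists_DD_mul {u : G} (hu : u ∈ N) (huK : u ∉ Subgroup.centralizer (K : Set G))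
    {n : G} (hn : n ∈ N) : ∃ k ∈ K, ∃ c ∈ N ⊓ cz u, n = k * c := by
  have huN := not_centN_of_not_centK K hKN huK
  have hsup : K ⊔ cz u = ⊤ := by
    rcases normal_le_or h K hu huN with h1 | h1
    · exact absurd h1 (K_not_le_cz K huK)
    · exact h1
  exact dedekind hKN hsup hn

include h hB hα hZK hKN hmin hab in
/-- (F6) `N / C_N(K)` is abelian -/
theorem commutator_le_DD : ⁅N, N⁆ ≤ DD N K := by
  obtain ⟨u, hu, huK⟩ := exists_not_centK K hZK hKN
  obtain ⟨k, hk, hkZ⟩ := exists_mem_K_not_ZN K hZK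
  have hkN := not_centN_of_mem_K K hKN hk hkZ
  have huN := not_centN_of_not_centK K hKN huK
  haveI hCnil : Group.IsNilpotent ↥(N ⊓ cz u) := isNilpotent_inf_cz hB h hu huN
  have hDn : (DD N K).Normal := inferInstance
  set D' : Subgroup ↥N := (DD N K).subgroupOf N with hD'
  haveI : D'.Normal := Subgroup.normal_subgroupOf
  let f : ↥(N ⊓ cz u) →* ↥N ⧸ D' :=
    (QuotientGroup.mk' D').comp (Subgroup.inclusion (inf_le_left : N ⊓ cz u ≤ N))
  have hsurj : Function.Surjective f := by
    intro y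
    induction y using QuotientGroup.induction_on with
    | H n =>
      obtain ⟨k', hk', c, hc, hnkc⟩ := exists_DD_mul h K hZK hKN hmin hab hu huK n.2
      refine ⟨⟨c, hc⟩, ?_⟩
      show (QuotientGroup.mk' D') (⟨c, (Subgroup.mem_inf.1 hc).1⟩ : ↥N) = QuotientGroup.mk' D' n
      have hn' : n = (⟨k', hKN hk'⟩ : ↥N) * ⟨c, (Subgroup.mem_inf.1 hc).1⟩ := Subtype.ext hnkc
      rw [hn', map_mul]
      have : (QuotientGroup.mk' D') (⟨k', hKN hk'⟩ : ↥N) = 1 := by
        rw [QuotientGroup.mk'_apply, QuotientGroup.eq_one_iff, hD', Subgroup.mem_subgroupOf]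
        exact K_le_DD K hKN hab hk'
      rw [this, one_mul]
  haveI hQnil : Group.IsNilpotent (↥N ⧸ D') := Group.nilpotent_of_surjective f hsurj
  haveI : Nontrivial (↥N ⧸ D') := by
    refine ⟨⟨QuotientGroup.mk' D' ⟨u, hu⟩, 1, ?_⟩⟩
    rw [QuotientGroup.mk'_apply, ne_eq, QuotientGroup.eq_one_iff, hD', Subgroup.mem_subgroupOf]
    intro hmem
    exact huK (Subgroup.mem_inf.1 hmem).2
  have hlt : commutator (↥N ⧸ D') < ⊤ := Group.IsSolvable.commutator_lt_top_of_nontrivial _
  by_contra hcon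
  have hLN : ⁅N, N⁆ ⊔ DD N K ≤ N := sup_le (Subgroup.commutator_le_self N) inf_le_left
  rcases normal_between h (⁅N, N⁆ ⊔ DD N K) (hKN hk) hkN hLN with h1 | h1
  · apply hcon
    rw [N_inf_cz_eq h hα K hZK hKN hmin hab hk hkZ] at h1
    exact le_sup_left.trans h1
  · rw [N_inf_cz_eq h hα K hZK hKN hmin hab hk hkZ, sup_assoc, sup_idem] at h1
    apply hlt.ne
    rw [eq_top_iff]
    intro y _
    induction y using QuotientGroup.induction_on with
    | H n =>
      have hn := h1 n.2
      rw [← SetLike.mem_coe, Subgroup.normal_mul] at hn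
      obtain ⟨c, hc, d, hd, hcd⟩ := Set.mem_mul.1 hn
      rw [← Subgroup.map_subtype_commutator] at hc
      obtain ⟨c', hc', rfl⟩ := Subgroup.mem_map.1 hc
      have hn' : n = c' * ⟨d, (Subgroup.mem_inf.1 hd).1⟩ := Subtype.ext hcd.symm
      have h2 : (QuotientGroup.mk' D') (⟨d, (Subgroup.mem_inf.1 hd).1⟩ : ↥N) = 1 := by
        rw [QuotientGroup.mk'_apply, QuotientGroup.eq_one_iff, hD', Subgroup.mem_subgroupOf]
        exact hd
      have h3 : (n : ↥N ⧸ D') = QuotientGroup.mk' D' c' := by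
        rw [hn']
        show QuotientGroup.mk' D' (c' * _) = _
        rw [map_mul, h2, mul_one]
      rw [h3]
      have h4 : (commutator ↥N).map (QuotientGroup.mk' D') = commutator (↥N ⧸ D') := by
        rw [commutator_def, Subgroup.map_commutator,
          Subgroup.map_top_of_surjective _ (QuotientGroup.mk'_surjective D'), commutator_def]
      rw [← h4]
      exact Subgroup.mem_map_of_mem _ hc'

include h hB hα hZK hKN hmin hab in
/-- (F7) `|N : C_N(K)|` is prime -/
theorem index_DD_prime : (((DD N K).subgroupOf N).index).Prime := by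
  obtain ⟨u, hu, huK⟩ := exists_not_centK K hZK hKN
  obtain ⟨k, hk, hkZ⟩ := exists_mem_K_not_ZN K hZK
  have hkN := not_centN_of_mem_K K hKN hk hkZ
  have hcomm := commutator_le_DD h hB hα K hZK hKN hmin hab
  haveI : ((DD N K).subgroupOf N).Normal := Subgroup.normal_subgroupOf
  apply Cfsg.Agent.S3904.index_prime_of_normal_coatom
  constructor
  · intro htop
    have : (⟨u, hu⟩ : ↥N) ∈ (DD N K).subgroupOf N := by rw [htop]; exact Subgroup.mem_top _
    rw [Subgroup.mem_subgroupOf] at this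
    exact huK (Subgroup.mem_inf.1 this).2
  · intro L' hL'
    set L : Subgroup G := L'.map N.subtype with hL
    have hLN : L ≤ N := Subgroup.map_subtype_le L'
    have hDL : DD N K ≤ L := by
      intro d hd
      have hdN : d ∈ N := (Subgroup.mem_inf.1 hd).1
      have : (⟨d, hdN⟩ : ↥N) ∈ L' := hL'.le (Subgroup.mem_subgroupOf.2 hd)
      exact ⟨⟨d, hdN⟩, this, rfl⟩
    have hLn : L.Normal := by
      constructor
      intro l hl g
      have hlN := hLN hl
      have h1 : g * l * g⁻¹ * l⁻¹ ∈ L := hDL (hcomm (comm_mem_commutator h hB hlN g))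
      have h2 : g * l * g⁻¹ = (g * l * g⁻¹ * l⁻¹) * l := by group
      rw [h2]; exact mul_mem h1 hl
    rcases normal_between h L (hKN hk) hkN hLN with h1 | h1
    · exfalso
      rw [N_inf_cz_eq h hα K hZK hKN hmin hab hk hkZ] at h1
      apply hL'.not_ge
      intro l hl
      rw [Subgroup.mem_subgroupOf]
      exact h1 ⟨l, hl, rfl⟩
    · rw [N_inf_cz_eq h hα K hZK hKN hmin hab hk hkZ, sup_eq_left.2 hDL] at h1
      rw [eq_top_iff]
      intro n _
      obtain ⟨l, hl, hln⟩ := h1 n.2
      have : l = n := Subtype.ext hln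
      rw [← this]; exact hl

end Frob

end Cfsg.Agent.Helper11.RelMax
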