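/-
helper11: S3905, abelian minimal normal subgroup `K`: `C_N(K) = K`.
-/
import Cfsg.Agent.Helper11.RelMax.Frob2
import Cfsg.Agent.Helper63.PGroup

set_option autoImplicit false
set_option linter.unusedSectionVars false
set_option linter.unusedVariables false
set_option linter.style.haveILetI false

namespace Cfsg.Agent.Helper11.RelMax

open scoped commutatorElement

variable {G : Type*} [Group G] [Finite G] {N : Subgroup G} [N.Normal]

/-- the quotient map `N → N / Z(N)` -/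
abbrev qn (N : Subgroup G) : ↥N →* ↥N ⧸ Subgroup.center ↥N := QuotientGroup.mk' (Subgroup.center ↥N)

theorem qn_eq_one_iff {n : ↥N} : qn N n = 1 ↔ (n : G) ∈ ZN N := by
  rw [QuotientGroup.mk'_apply, QuotientGroup.eq_one_iff, mem_center_sub_iff, mem_ZN]
  exact ⟨fun h' => ⟨n.2, h'⟩, fun h' => h'.2⟩

section Frob

variable (h : Hyp N) (hB : ZN N ≤ Subgroup.center G)
  (hα : ∀ x ∈ N, x ∉ Subgroup.centralizer (N : Set G) → ∀ g : G, g * x * g⁻¹ * x⁻¹ ∈ ZN N →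
      g * x = x * g)
  (K : Subgroup G) [K.Normal] (hZK : ZN N < K) (hKN : K ≤ N)
  (hmin : ∀ L : Subgroup G, L.Normal → ZN N < L → L ≤ K → L = K)
  (hab : ∀ a ∈ K, ∀ b ∈ K, a * b = b * a)
  {p : ℕ} (hp : p.Prime) (hexp : ∀ k ∈ K, k ^ p ∈ ZN N)

include h hB hα hZK hKN hmin hab hp hexp in
/-- (f1) -/
theorem prime_dvd_oz {u : G} (hu : u ∈ N) (huK : u ∉ Subgroup.centralizer (K : Set G))
    {d : G} (hd : d ∈ DD N K) (hdu : d ∈ cz u) (hdZ : d ∉ ZN N) : p ∣ oz N d := by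
  obtain ⟨k₁, hk₁, hk₁Z⟩ := exists_mem_K_not_ZN K hZK
  have hk₁o : oz N k₁ = p := oz_eq_prime hp (hexp k₁ hk₁) hk₁Z
  have hk₁N := not_centN_of_mem_K K hKN hk₁ hk₁Z
  obtain ⟨hdN, hdK⟩ := Subgroup.mem_inf.1 hd
  have hdcN := not_cent_of_not_mem_ZN hdN hdZ
  by_contra hnd
  have hco : (oz N d).Coprime (oz N k₁) := by
    rw [hk₁o, Nat.coprime_comm]; exact (Nat.Prime.coprime_iff_not_dvd hp).2 hnd
  have hcomm : d * k₁ = k₁ * d := ((Subgroup.mem_centralizer_iff.1 hdK) k₁ hk₁).symm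
  have hcz := cz_eq_of_coprime hB h hdN hdcN (hKN hk₁) hk₁N hcomm hco
  have hud : u ∈ cz d := mem_cz.2 (mem_cz.1 hdu).symm
  rw [hcz] at hud
  apply hk₁Z
  rw [← K_inf_cz h K hZK hKN hmin hab hu huK]
  exact Subgroup.mem_inf.2 ⟨hk₁, mem_cz.2 (mem_cz.1 hud).symm⟩

include h hB hα hZK hKN hmin hab hp hexp in
/-- (f2) -/
theorem oz_eq_pow {u : G} (hu : u ∈ N) (huK : u ∉ Subgroup.centralizer (K : Set G))
    {d : G} (hd : d ∈ DD N K) (hdu : d ∈ cz u) : ∃ a : ℕ, oz N d = p ^ a := by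
  by_cases hdZ : d ∈ ZN N
  · exact ⟨0, by rw [pow_zero]; exact oz_eq_one_iff.2 hdZ⟩
  · refine ⟨_, Nat.eq_prime_pow_of_unique_prime_dvd (oz_pos d).ne' ?_⟩
    intro r hr hrd
    obtain ⟨d', hd'N, hd'Z, hd'o, hd'c, hd'mem⟩ :=
      exists_prime_pow h (Subgroup.mem_inf.1 hd).1 hr hrd
    have hz1 : Subgroup.zpowers d ≤ DD N K := by rw [Subgroup.zpowers_le]; exact hd
    have hz2 : Subgroup.zpowers d ≤ cz u := by rw [Subgroup.zpowers_le]; exact hdu
    have := prime_dvd_oz h hB hα K hZK hKN hmin hab hp hexp hu huK (hz1 hd'mem) (hz2 hd'mem)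
      (not_mem_ZN hd'Z)
    rw [hd'o] at this
    exact ((Nat.prime_dvd_prime_iff_eq hp hr).1 this).symm

include h hB hα hZK hKN hmin hab hp hexp in
/-- (f3) the index of `C_N(K)` in `N` is not `p` -/
theorem index_ne_p : ((DD N K).subgroupOf N).index ≠ p := by
  intro hidx
  obtain ⟨u, hu, huK⟩ := exists_not_centK K hZK hKN
  haveI : Fact p.Prime := ⟨hp⟩
  haveI hD'n : ((DD N K).subgroupOf N).Normal := Subgroup.normal_subgroupOf
  -- every element of `N` has `p`-power order modulo `Z(N)`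
  have hpow : ∀ n ∈ N, ∃ j : ℕ, n ^ (p ^ j) ∈ ZN N := by
    intro n hn
    have h1 : (⟨n, hn⟩ : ↥N) ^ p ∈ (DD N K).subgroupOf N := by
      rw [← hidx]; exact Subgroup.pow_index_mem _ _
    rw [Subgroup.mem_subgroupOf] at h1
    have hd : n ^ p ∈ DD N K := h1
    obtain ⟨k, hk, c, hc, hkc⟩ := exists_DD_mul h K hZK hKN hmin hab hu huK
      (Subgroup.mem_inf.1 hd).1
    have hcD : c ∈ DD N K := by
      have : c = k⁻¹ * n ^ p := by rw [hkc]; group
      rw [this]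
      exact mul_mem (inv_mem (K_le_DD K hKN hab hk)) hd
    obtain ⟨a, ha⟩ := oz_eq_pow h hB hα K hZK hKN hmin hab hp hexp hu huK hcD
      (Subgroup.mem_inf.1 hc).2
    refine ⟨a + 2, ?_⟩
    have hcomm : Commute k c :=
      ((Subgroup.mem_centralizer_iff.1 (Subgroup.mem_inf.1 hcD).2) k hk)
    have e1 : n ^ p ^ (a + 2) = (n ^ p) ^ (p ^ (a + 1)) := by
      rw [← pow_mul]; congr 1; ring
    rw [e1, hkc, hcomm.mul_pow]
    apply mul_mem
    · have : k ^ p ^ (a + 1) = (k ^ p) ^ (p ^ a) := by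
        rw [← pow_mul]; congr 1; ring
      rw [this]; exact pow_mem (hexp k hk) _
    · have : c ^ p ^ (a + 1) = (c ^ (p ^ a)) ^ p := by
        rw [← pow_mul]; congr 1
      rw [this]; exact pow_mem (pow_mem_ZN_of_oz ha) _
  have hQ : IsPGroup p (↥N ⧸ Subgroup.center ↥N) := by
    intro y
    induction y using QuotientGroup.induction_on with
    | H n =>
      obtain ⟨j, hj⟩ := hpow n n.2
      refine ⟨j, ?_⟩
      show (qn N n) ^ (p ^ j) = 1
      rw [← map_pow, qn_eq_one_iff]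
      exact hj
  set Kb : Subgroup (↥N ⧸ Subgroup.center ↥N) := (K.subgroupOf N).map (qn N) with hKb
  haveI : (K.subgroupOf N).Normal := Subgroup.normal_subgroupOf
  haveI : Kb.Normal := Subgroup.Normal.map inferInstance _ (QuotientGroup.mk'_surjective _)
  obtain ⟨k₁, hk₁, hk₁Z⟩ := exists_mem_K_not_ZN K hZK
  have hKbne : Kb ≠ ⊥ := by
    intro hbot
    have : qn N ⟨k₁, hKN hk₁⟩ ∈ Kb :=
      Subgroup.mem_map_of_mem _ (Subgroup.mem_subgroupOf.2 hk₁)
    rw [hbot, Subgroup.mem_bot, qn_eq_one_iff] at this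
    exact hk₁Z this
  have hne := Cfsg.Agent.Helper63.normal_inf_center_ne_bot hQ Kb hKbne
  obtain ⟨⟨x, hxmem⟩, hx1⟩ := (Subgroup.ne_bot_iff_exists_ne_one).1 hne
  obtain ⟨hxK, hxc⟩ := Subgroup.mem_inf.1 hxmem
  obtain ⟨k, hk, rfl⟩ := Subgroup.mem_map.1 hxK
  rw [Subgroup.mem_subgroupOf] at hk
  have hkZ : (k : G) ∉ ZN N := by
    intro hmem
    apply hx1
    apply Subtype.ext
    exact qn_eq_one_iff.2 hmem
  apply fpf h hα K hZK hKN hmin hab hk hkZ hu huK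
  have hcomm := Subgroup.mem_center_iff.1 hxc (qn N ⟨u, hu⟩)
  have : qn N (⟨u, hu⟩ * k * ⟨u, hu⟩⁻¹ * k⁻¹) = 1 := by
    rw [map_mul, map_mul, map_mul, map_inv, map_inv, hcomm]
    group
  exact qn_eq_one_iff.1 this

include h hB hα hZK hKN hmin hab hp hexp in
/-- (f4) -/
theorem DD_inf_cz_le {u : G} (hu : u ∈ N) (huK : u ∉ Subgroup.centralizer (K : Set G)) :
    DD N K ⊓ cz u ≤ ZN N := by
  intro d hd'
  obtain ⟨hd, hdu⟩ := Subgroup.mem_inf.1 hd'
  by_contra hdZ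
  obtain ⟨hdN, hdK⟩ := Subgroup.mem_inf.1 hd
  have hdcN := not_cent_of_not_mem_ZN hdN hdZ
  obtain ⟨a, ha⟩ := oz_eq_pow h hB hα K hZK hKN hmin hab hp hexp hu huK hd hdu
  have hq := index_DD_prime h hB hα K hZK hKN hmin hab
  have hqp := index_ne_p h hB hα K hZK hKN hmin hab hp hexp
  set q := ((DD N K).subgroupOf N).index with hqdef
  haveI hD'n : ((DD N K).subgroupOf N).Normal := Subgroup.normal_subgroupOf
  obtain ⟨b, m, hm, hn⟩ := Nat.exists_eq_pow_mul_and_not_dvd (oz_pos (N := N) u).ne' p hp.ne_one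
  have hpb : p ^ b ≠ 0 := pow_ne_zero _ hp.ne_zero
  have ho1 : oz N (u ^ (p ^ b)) = m := by
    rw [oz, map_pow, orderOf_pow_of_dvd hpb (by rw [show orderOf (qz N u) = oz N u from rfl, hn]; exact dvd_mul_right _ _)]
    rw [show orderOf (qz N u) = oz N u from rfl, hn, Nat.mul_div_cancel_left _ (Nat.pos_of_ne_zero hpb)]
  -- `u ^ (p ^ b)` does not centralise `K`
  have hu1K : u ^ (p ^ b) ∉ Subgroup.centralizer (K : Set G) := by
    intro hmem
    apply huK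
    have h1 : ((⟨u, hu⟩ : ↥N) : ↥N ⧸ (DD N K).subgroupOf N) ^ (p ^ b) = 1 := by
      rw [← QuotientGroup.mk_pow, QuotientGroup.eq_one_iff, Subgroup.mem_subgroupOf]
      exact Subgroup.mem_inf.2 ⟨pow_mem hu _, hmem⟩
    have h2 : ((⟨u, hu⟩ : ↥N) : ↥N ⧸ (DD N K).subgroupOf N) ^ q = 1 := by
      rw [← QuotientGroup.mk_pow, QuotientGroup.eq_one_iff]
      exact Subgroup.pow_index_mem _ _
    have h3 : orderOf ((⟨u, hu⟩ : ↥N) : ↥N ⧸ (DD N K).subgroupOf N) ∣ p ^ b :=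
      orderOf_dvd_of_pow_eq_one h1
    have h4 : orderOf ((⟨u, hu⟩ : ↥N) : ↥N ⧸ (DD N K).subgroupOf N) ∣ q :=
      orderOf_dvd_of_pow_eq_one h2
    have hcop : (p ^ b).Coprime q :=
      Nat.Coprime.pow_left _ ((Nat.coprime_primes hp hq).2 (Ne.symm hqp))
    have h5 : orderOf ((⟨u, hu⟩ : ↥N) : ↥N ⧸ (DD N K).subgroupOf N) = 1 :=
      Nat.eq_one_of_dvd_coprimes hcop h3 h4
    rw [orderOf_eq_one_iff, QuotientGroup.eq_one_iff, Subgroup.mem_subgroupOf] at h5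
    exact (Subgroup.mem_inf.1 h5).2
  have hu1N : u ^ (p ^ b) ∈ N := pow_mem hu _
  have hu1cN := not_centN_of_not_centK K hKN hu1K
  have hcz1 : cz (u ^ (p ^ b)) = cz u := cz_pow_eq h hu hu1cN
  have hcomm : d * u ^ (p ^ b) = u ^ (p ^ b) * d := by
    have : d ∈ cz (u ^ (p ^ b)) := by rw [hcz1]; exact hdu
    exact mem_cz.1 this
  have hco : (oz N d).Coprime (oz N (u ^ (p ^ b))) := by
    rw [ha, ho1]
    exact Nat.Coprime.pow_left _ ((Nat.Prime.coprime_iff_not_dvd hp).2 hm)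
  have hczd := cz_eq_of_coprime hB h hdN hdcN hu1N hu1cN hcomm hco
  apply K_not_le_cz K huK
  rw [← hcz1, ← hczd]
  intro k hk
  rw [mem_cz]
  exact (Subgroup.mem_centralizer_iff.1 hdK) k hk

include h hB hα hZK hKN hmin hab hp hexp in
/-- (f5) `C_N(K) = K` -/
theorem DD_eq_K : DD N K = K := by
  apply le_antisymm
  · intro d hd
    obtain ⟨u, hu, huK⟩ := exists_not_centK K hZK hKN
    obtain ⟨k, hk, c, hc, hkc⟩ := exists_DD_mul h K hZK hKN hmin hab hu huK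
      (Subgroup.mem_inf.1 hd).1
    have hcD : c ∈ DD N K := by
      have : c = k⁻¹ * d := by rw [hkc]; group
      rw [this]
      exact mul_mem (inv_mem (K_le_DD K hKN hab hk)) hd
    have hcZ : c ∈ ZN N := DD_inf_cz_le h hB hα K hZK hKN hmin hab hp hexp hu huK
      (Subgroup.mem_inf.2 ⟨hcD, (Subgroup.mem_inf.1 hc).2⟩)
    rw [hkc]
    exact mul_mem hk (hZK.le hcZ)
  · exact K_le_DD K hKN hab

end Frob

end Cfsg.Agent.Helper11.RelMax
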