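/-
helper11: S3905, abelian minimal normal subgroup `K`: the complement `C_N(u₀)`.
-/
import Cfsg.Agent.Helper11.RelMax.Frob3

set_option autoImplicit false
set_option linter.unusedSectionVars false
set_option linter.unusedVariables false
set_option linter.style.haveILetI false

namespace Cfsg.Agent.Helper11.RelMax

open scoped commutatorElement

variable {G : Type*} [Group G] [Finite G] {N : Subgroup G} [N.Normal]

section Frob

variable (h : Hyp N) (hB : ZN N ≤ Subgroup.center G)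
  (hα : ∀ x ∈ N, x ∉ Subgroup.centralizer (N : Set G) → ∀ g : G, g * x * g⁻¹ * x⁻¹ ∈ ZN N →
      g * x = x * g)
  (K : Subgroup G) [K.Normal] (hZK : ZN N < K) (hKN : K ≤ N)
  (hmin : ∀ L : Subgroup G, L.Normal → ZN N < L → L ≤ K → L = K)
  (hab : ∀ a ∈ K, ∀ b ∈ K, a * b = b * a)
  {p : ℕ} (hp : p.Prime) (hexp : ∀ k ∈ K, k ^ p ∈ ZN N)
  {u₀ : G} (hu₀ : u₀ ∈ N) (hu₀K : u₀ ∉ Subgroup.centralizer (K : Set G))

include h hB hα hZK hKN hmin hab hp hexp in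
theorem index_K_prime : ((K.subgroupOf N).index).Prime := by
  have := index_DD_prime h hB hα K hZK hKN hmin hab
  rwa [DD_eq_K h hB hα K hZK hKN hmin hab hp hexp] at this

include h hB hα hZK hKN hmin hab hp hexp in
theorem index_K_ne_p : (K.subgroupOf N).index ≠ p := by
  have := index_ne_p h hB hα K hZK hKN hmin hab hp hexp
  rwa [DD_eq_K h hB hα K hZK hKN hmin hab hp hexp] at this

include h hB hα hZK hKN hmin hab hp hexp hu₀ hu₀K in
/-- (g2) -/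
theorem not_mem_K_of_mem_C {c : G} (hc : c ∈ N ⊓ cz u₀) (hcZ : c ∉ ZN N) : c ∉ K := by
  intro hcK
  apply hcZ
  rw [← K_inf_cz h K hZK hKN hmin hab hu₀ hu₀K]
  exact Subgroup.mem_inf.2 ⟨hcK, (Subgroup.mem_inf.1 hc).2⟩

include h hB hα hZK hKN hmin hab hp hexp hu₀ hu₀K in
theorem not_centK_of_mem_C {c : G} (hc : c ∈ N ⊓ cz u₀) (hcZ : c ∉ ZN N) :
    c ∉ Subgroup.centralizer (K : Set G) := by
  intro hcK
  apply not_mem_K_of_mem_C h hB hα K hZK hKN hmin hab hp hexp hu₀ hu₀K hc hcZ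
  rw [← DD_eq_K h hB hα K hZK hKN hmin hab hp hexp]
  exact Subgroup.mem_inf.2 ⟨(Subgroup.mem_inf.1 hc).1, hcK⟩

include h hB hα hZK hKN hmin hab hp hexp hu₀ hu₀K in
/-- (g3) `C_N(u₀)` is cyclic modulo `Z(N)`, generated by any noncentral element -/
theorem exists_pow_mul {c v : G} (hv : v ∈ N ⊓ cz u₀) (hvZ : v ∉ ZN N) (hc : c ∈ N ⊓ cz u₀) :
    ∃ j : ℕ, ∃ ζ ∈ ZN N, c = v ^ j * ζ := by
  have hq := index_K_prime h hB hα K hZK hKN hmin hab hp hexp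
  haveI : (K.subgroupOf N).Normal := Subgroup.normal_subgroupOf
  haveI : Fact ((K.subgroupOf N).index).Prime := ⟨hq⟩
  have hcard : Nat.card (↥N ⧸ K.subgroupOf N) = (K.subgroupOf N).index :=
    (Subgroup.index_eq_card _).symm
  obtain ⟨hvN, hvu⟩ := Subgroup.mem_inf.1 hv
  obtain ⟨hcN, hcu⟩ := Subgroup.mem_inf.1 hc
  have hvK := not_mem_K_of_mem_C h hB hα K hZK hKN hmin hab hp hexp hu₀ hu₀K hv hvZ
  have hv1 : ((⟨v, hvN⟩ : ↥N) : ↥N ⧸ K.subgroupOf N) ≠ 1 := by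
    rw [ne_eq, QuotientGroup.eq_one_iff, Subgroup.mem_subgroupOf]
    exact hvK
  have htop := zpowers_eq_top_of_prime_card hcard hv1
  have hmem : ((⟨c, hcN⟩ : ↥N) : ↥N ⧸ K.subgroupOf N) ∈
      Subgroup.zpowers ((⟨v, hvN⟩ : ↥N) : ↥N ⧸ K.subgroupOf N) := by
    rw [htop]; exact Subgroup.mem_top _
  rw [← (isOfFinOrder_of_finite _).mem_powers_iff_mem_zpowers, Submonoid.mem_powers_iff] at hmem
  obtain ⟨j, hj⟩ := hmem
  refine ⟨j, (v ^ j)⁻¹ * c, ?_, by group⟩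
  rw [← K_inf_cz h K hZK hKN hmin hab hu₀ hu₀K]
  refine Subgroup.mem_inf.2 ⟨?_, mul_mem (inv_mem (pow_mem hvu j)) hcu⟩
  rw [← QuotientGroup.mk_pow, QuotientGroup.eq, Subgroup.mem_subgroupOf] at hj
  exact hj

include h hB hα hZK hKN hmin hab hp hexp hu₀ hu₀K in
/-- (g4) -/
theorem cz_eq_of_mem_C {c : G} (hc : c ∈ N ⊓ cz u₀) (hcZ : c ∉ ZN N) : cz c = cz u₀ := by
  have hu₀C : u₀ ∈ N ⊓ cz u₀ := Subgroup.mem_inf.2 ⟨hu₀, self_mem_cz u₀⟩
  obtain ⟨j, ζ, hζ, hu⟩ :=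
    exists_pow_mul h hB hα K hZK hKN hmin hab hp hexp hu₀ hu₀K hc hcZ hu₀C
  have hcN := (Subgroup.mem_inf.1 hc).1
  have hle : cz c ≤ cz u₀ := by
    intro g hg
    rw [hu, cz_mul_central hB _ hζ, mem_cz]
    exact ((Commute.pow_right (show Commute g c from mem_cz.1 hg) j)).eq
  exact (cz_eq_of_le h hcN (not_cent_of_not_mem_ZN hcN hcZ) hu₀
    (not_centN_of_not_centK K hKN hu₀K) hle).symm

include h hB hα hZK hKN hmin hab hp hexp hu₀ hu₀K in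
/-- (g5) `C_G(u₀)` is self-normalizing -/
theorem normalizer_cz_eq : Subgroup.normalizer ((cz u₀ : Subgroup G) : Set G) = cz u₀ := by
  have hu₀N := not_centN_of_not_centK K hKN hu₀K
  rcases (h u₀ hu₀ hu₀N).le_iff.1 (Subgroup.le_normalizer (H := cz u₀)) with h1 | h1
  · exfalso
    have hn : (cz u₀).Normal := Subgroup.normalizer_eq_top_iff.1 h1
    obtain ⟨k₁, hk₁, hk₁Z⟩ := exists_mem_K_not_ZN K hZK
    apply fpf h hα K hZK hKN hmin hab hk₁ hk₁Z hu₀ hu₀K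
    have h2 : k₁ * u₀ * k₁⁻¹ * u₀⁻¹ ∈ K ⊓ cz u₀ := by
      refine Subgroup.mem_inf.2 ⟨?_, ?_⟩
      · have : k₁ * u₀ * k₁⁻¹ * u₀⁻¹ = k₁ * (u₀ * k₁⁻¹ * u₀⁻¹) := by group
        rw [this]
        exact mul_mem hk₁ (‹K.Normal›.conj_mem _ (inv_mem hk₁) u₀)
      · exact mul_mem (hn.conj_mem _ (self_mem_cz u₀) k₁) (inv_mem (self_mem_cz u₀))
    rw [K_inf_cz h K hZK hKN hmin hab hu₀ hu₀K] at h2
    have : u₀ * k₁ * u₀⁻¹ * k₁⁻¹ = (k₁ * u₀ * k₁⁻¹ * u₀⁻¹)⁻¹ := by group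
    rw [this]; exact inv_mem h2
  · exact h1

include h hB hα hZK hKN hmin hab hp hexp hu₀ hu₀K in
/-- (g6) -/
theorem pow_index_mem_ZN : u₀ ^ (K.subgroupOf N).index ∈ ZN N := by
  haveI : (K.subgroupOf N).Normal := Subgroup.normal_subgroupOf
  rw [← K_inf_cz h K hZK hKN hmin hab hu₀ hu₀K]
  refine Subgroup.mem_inf.2 ⟨?_, pow_mem (self_mem_cz u₀) _⟩
  have := Subgroup.pow_index_mem (K.subgroupOf N) (⟨u₀, hu₀⟩ : ↥N)
  rw [Subgroup.mem_subgroupOf] at this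
  exact this

end Frob

end Cfsg.Agent.Helper11.RelMax
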