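/-
helper11: S3905, abelian minimal normal subgroup `K`: the Frobenius structure of `N / Z(N)`.
-/
import Cfsg.Agent.Helper11.RelMax.Frob4

set_option autoImplicit false
set_option linter.unusedSectionVars false
set_option linter.unusedVariables false
set_option linter.style.haveILetI false

namespace Cfsg.Agent.Helper11.RelMax

open scoped Pointwise

variable {G : Type*} [Group G] [Finite G] {N : Subgroup G} [N.Normal]

section Frob

variable (h : Hyp N) (hB : ZN N ≤ Subgroup.center G)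
  (hα : ∀ x ∈ N, x ∉ Subgroup.centralizer (N : Set G) → ∀ g : G, g * x * g⁻¹ * x⁻¹ ∈ ZN N →
      g * x = x * g)
  (K : Subgroup G) [K.Normal] (hZK : ZN N < K) (hKN : K ≤ N)
  (hmin : ∀ L : Subgroup G, L.Normal → ZN N < L → L ≤ K → L = K)
  (hab : ∀ a ∈ K, ∀ b ∈ K, a * b = b * a)
  {p : ℕ} (hp : p.Prime) (hexp : ∀ k ∈ K, k ^ p ∈ ZN N)
  {u₀ : G} (hu₀ : u₀ ∈ N) (hu₀K : u₀ ∉ Subgroup.centralizer (K : Set G))

include hZK in
theorem qn_mem_Kb_iff {n : ↥N} : qn N n ∈ (K.subgroupOf N).map (qn N) ↔ (n : G) ∈ K := by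
  constructor
  · intro hn
    obtain ⟨k, hk, hkn⟩ := Subgroup.mem_map.1 hn
    rw [Subgroup.mem_subgroupOf] at hk
    have h1 : qn N (k⁻¹ * n) = 1 := by rw [map_mul, map_inv, hkn, inv_mul_cancel]
    rw [qn_eq_one_iff] at h1
    have h2 : (n : G) = (k : G) * ((k⁻¹ * n : ↥N) : G) := by
      simp
    rw [h2]
    exact mul_mem hk (hZK.le h1)
  · intro hn
    exact Subgroup.mem_map_of_mem _ (Subgroup.mem_subgroupOf.2 hn)

include h hB hα hZK hKN hmin hab hp hexp hu₀ hu₀K in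
theorem qn_mem_Qb_iff {n : ↥N} :
    qn N n ∈ Subgroup.zpowers (qn N ⟨u₀, hu₀⟩) ↔ (n : G) ∈ N ⊓ cz u₀ := by
  have hu₀Z : u₀ ∉ ZN N := not_mem_ZN (not_centN_of_not_centK K hKN hu₀K)
  have hu₀C : u₀ ∈ N ⊓ cz u₀ := Subgroup.mem_inf.2 ⟨hu₀, self_mem_cz u₀⟩
  constructor
  · intro hn
    obtain ⟨j, hj⟩ := Subgroup.mem_zpowers_iff.1 hn
    refine Subgroup.mem_inf.2 ⟨n.2, ?_⟩
    have h1 : qn N (((⟨u₀, hu₀⟩ : ↥N) ^ j)⁻¹ * n) = 1 := by
      rw [map_mul, map_inv, map_zpow, hj, inv_mul_cancel]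
    rw [qn_eq_one_iff] at h1
    have h2 : (n : G) = u₀ ^ j * ((((⟨u₀, hu₀⟩ : ↥N) ^ j)⁻¹ * n : ↥N) : G) := by
      simp
    rw [h2]
    exact mul_mem (zpow_mem (self_mem_cz u₀) j) (ZN_le_cz hu₀ h1)
  · intro hn
    obtain ⟨j, ζ, hζ, hc⟩ :=
      exists_pow_mul h hB hα K hZK hKN hmin hab hp hexp hu₀ hu₀K hu₀C hu₀Z hn
    have h1 : n = (⟨u₀, hu₀⟩ : ↥N) ^ j * ⟨ζ, ZN_le N hζ⟩ := Subtype.ext (by simpa using hc)
    have h2 : qn N (⟨ζ, ZN_le N hζ⟩ : ↥N) = 1 := qn_eq_one_iff.2 hζ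
    rw [h1, map_mul, h2, mul_one, map_pow]
    exact Subgroup.pow_mem _ (Subgroup.mem_zpowers _) j

include h hα hZK hKN hmin hab in
/-- fixed-point-freeness in the quotient -/
theorem quot_fpf {w : ↥N ⧸ Subgroup.center ↥N} (hw : w ∈ (K.subgroupOf N).map (qn N)) {c : ↥N}
    (hcK : (c : G) ∉ Subgroup.centralizer (K : Set G)) (hcomm : w * qn N c = qn N c * w) :
    w = 1 := by
  obtain ⟨k, hk, rfl⟩ := Subgroup.mem_map.1 hw
  rw [Subgroup.mem_subgroupOf] at hk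
  rw [qn_eq_one_iff]
  by_contra hkZ
  apply fpf h hα K hZK hKN hmin hab hk hkZ c.2 hcK
  have : qn N (c * k * c⁻¹ * k⁻¹) = 1 := by
    rw [map_mul, map_mul, map_mul, map_inv, map_inv, ← hcomm]; group
  exact qn_eq_one_iff.1 this

end Frob

set_option maxHeartbeats 800000 in
/-- an abelian minimal `K` gives the Frobenius structure. -/
theorem caseFrob (h : Hyp N) (hB : ZN N ≤ Subgroup.center G)
    (hα : ∀ x ∈ N, x ∉ Subgroup.centralizer (N : Set G) → ∀ g : G, g * x * g⁻¹ * x⁻¹ ∈ ZN N →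
      g * x = x * g)
    (K : Subgroup G) [K.Normal] (hZK : ZN N < K) (hKN : K ≤ N)
    (hmin : ∀ L : Subgroup G, L.Normal → ZN N < L → L ≤ K → L = K)
    (hab : ∀ a ∈ K, ∀ b ∈ K, a * b = b * a) : Alt2 N := by
  obtain ⟨p, hp, hexp⟩ := exists_exponent K hZK hmin hab
  obtain ⟨u₀, hu₀, hu₀K⟩ := exists_not_centK K hZK hKN
  have hq := index_K_prime h hB hα K hZK hKN hmin hab hp hexp
  have hu₀cN := not_centN_of_not_centK K hKN hu₀K
  have hu₀Z : u₀ ∉ ZN N := not_mem_ZN hu₀cN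
  have hsurj : Function.Surjective (qn N) := QuotientGroup.mk'_surjective _
  have hKb : ∀ n : ↥N, qn N n ∈ (K.subgroupOf N).map (qn N) ↔ (n : G) ∈ K :=
    fun n => qn_mem_Kb_iff K hZK
  have hQb : ∀ n : ↥N, qn N n ∈ Subgroup.zpowers (qn N ⟨u₀, hu₀⟩) ↔ (n : G) ∈ N ⊓ cz u₀ :=
    fun n => qn_mem_Qb_iff h hB hα K hZK hKN hmin hab hp hexp hu₀ hu₀K
  have hub1 : qn N ⟨u₀, hu₀⟩ ≠ 1 := by
    rw [ne_eq, qn_eq_one_iff]; exact hu₀Z
  have hubq : (qn N ⟨u₀, hu₀⟩) ^ (K.subgroupOf N).index = 1 := by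
    rw [← map_pow, qn_eq_one_iff]
    exact pow_index_mem_ZN h hB hα K hZK hKN hmin hab hp hexp hu₀ hu₀K
  have hord : orderOf (qn N ⟨u₀, hu₀⟩) = (K.subgroupOf N).index := by
    have := orderOf_dvd_of_pow_eq_one hubq
    rcases (Nat.dvd_prime hq).1 this with h1 | h1
    · exact absurd (orderOf_eq_one_iff.1 h1) hub1
    · exact h1
  obtain ⟨k₁, hk₁, hk₁Z⟩ := exists_mem_K_not_ZN K hZK
  haveI hK'n : (K.subgroupOf N).Normal := Subgroup.normal_subgroupOf
  have hKbn : ((K.subgroupOf N).map (qn N)).Normal := Subgroup.Normal.map hK'n _ hsurj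
  refine ⟨Subgroup.zpowers (qn N ⟨u₀, hu₀⟩), (K.subgroupOf N).map (qn N), p, hp,
    ⟨?_, ?_, ?_⟩, ?_, hKbn, ?_, ?_⟩
  · -- `Qb ≠ ⊥`
    intro hbot
    apply hub1
    have : qn N ⟨u₀, hu₀⟩ ∈ Subgroup.zpowers (qn N ⟨u₀, hu₀⟩) := Subgroup.mem_zpowers _
    rw [hbot, Subgroup.mem_bot] at this
    exact this
  · -- `Qb ≠ ⊤`
    intro htop
    have : qn N ⟨k₁, hKN hk₁⟩ ∈ Subgroup.zpowers (qn N ⟨u₀, hu₀⟩) := by
      rw [htop]; exact Subgroup.mem_top _
    rw [hQb] at this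
    exact not_mem_K_of_mem_C h hB hα K hZK hKN hmin hab hp hexp hu₀ hu₀K this hk₁Z hk₁
  · -- trivial intersections
    intro g hg
    rw [eq_bot_iff]
    intro x hx
    rw [Subgroup.mem_bot]
    by_contra hx1
    obtain ⟨hxQ, hx2⟩ := Subgroup.mem_inf.1 hx
    obtain ⟨n, rfl⟩ := hsurj g
    obtain ⟨c, rfl⟩ := hsurj x
    rw [hQb] at hxQ
    rw [Subgroup.mem_smul_pointwise_iff_exists] at hx2
    obtain ⟨s, hs, hsx⟩ := hx2
    obtain ⟨c', rfl⟩ := hsurj s
    rw [hQb] at hs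
    rw [MulAut.smul_def, MulAut.conj_apply] at hsx
    have hcZ : (c : G) ∉ ZN N := fun hm => hx1 (qn_eq_one_iff.2 hm)
    have hc'Z : (c' : G) ∉ ZN N := by
      intro hm
      apply hx1
      rw [← hsx, qn_eq_one_iff.2 hm]; group
    have hζ : (((n * c' * n⁻¹)⁻¹ * c : ↥N) : G) ∈ ZN N := by
      rw [← qn_eq_one_iff, map_mul, map_inv, map_mul, map_mul, map_inv, hsx, inv_mul_cancel]
    have hceq : (c : G) = (n : G) * c' * (n : G)⁻¹ * (((n * c' * n⁻¹)⁻¹ * c : ↥N) : G) := by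
      simp only [Subgroup.coe_mul, Subgroup.coe_inv]; group
    have hM1 := cz_eq_of_mem_C h hB hα K hZK hKN hmin hab hp hexp hu₀ hu₀K hxQ hcZ
    have hM2 := cz_eq_of_mem_C h hB hα K hZK hKN hmin hab hp hexp hu₀ hu₀K hs hc'Z
    apply hg
    rw [hQb]
    refine Subgroup.mem_inf.2 ⟨n.2, ?_⟩
    have hnorm : (n : G)⁻¹ ∈ Subgroup.normalizer ((cz u₀ : Subgroup G) : Set G) := by
      rw [Subgroup.mem_normalizer_iff]
      intro g'
      rw [inv_inv]
      have := Cfsg.Agent.S3904.mem_cz_conj_iff (g := (n : G)) (b := (c' : G))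
        (z := (((n * c' * n⁻¹)⁻¹ * c : ↥N) : G)) (h := g') (hB hζ)
      rw [← hceq] at this
      change g' ∈ cz (c : G) ↔ (n : G)⁻¹ * g' * n ∈ cz (c' : G) at this
      rw [hM1, hM2] at this
      exact this
    rw [normalizer_cz_eq h hB hα K hZK hKN hmin hab hp hexp hu₀ hu₀K] at hnorm
    exact (Subgroup.inv_mem_iff _).1 hnorm
  · -- the order of the complement
    rw [Nat.card_zpowers, hord]; exact hq
  · -- the kernel
    ext x
    obtain ⟨n, rfl⟩ := hsurj x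
    rw [SetLike.mem_coe, hKb]
    unfold Cfsg.frobeniusKernel
    rw [Set.mem_ofPred_eq]
    constructor
    · intro hnK
      by_cases hn1 : qn N n = 1
      · left; exact hn1
      · right
        intro g hmem
        obtain ⟨m, rfl⟩ := hsurj g
        rw [Subgroup.mem_smul_pointwise_iff_exists] at hmem
        obtain ⟨s, hs, hsx⟩ := hmem
        obtain ⟨c, rfl⟩ := hsurj s
        rw [hQb] at hs
        rw [MulAut.smul_def, MulAut.conj_apply] at hsx
        have hcK : qn N c ∈ (K.subgroupOf N).map (qn N) := by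
          have : qn N c = qn N (m⁻¹ * n * m) := by
            rw [map_mul, map_mul, map_inv, ← hsx]; group
          rw [this, hKb]
          have h1 : ((m⁻¹ * n * m : ↥N) : G) = (m : G)⁻¹ * n * ((m : G)⁻¹)⁻¹ := by simp
          rw [h1]
          exact ‹K.Normal›.conj_mem _ hnK _
        rw [hKb] at hcK
        have hcZ : (c : G) ∈ ZN N := by
          by_contra hcZ
          exact not_mem_K_of_mem_C h hB hα K hZK hKN hmin hab hp hexp hu₀ hu₀K hs hcZ hcK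
        apply hn1
        rw [← hsx, qn_eq_one_iff.2 hcZ]; group
    · intro hx
      by_contra hnK
      rcases hx with hx | hx
      · rw [qn_eq_one_iff] at hx; exact hnK (hZK.le hx)
      · obtain ⟨k, hk, c, hc, hnkc⟩ := exists_DD_mul h K hZK hKN hmin hab hu₀ hu₀K n.2
        have hcZ : c ∉ ZN N := by
          intro hcZ; apply hnK; rw [hnkc]; exact mul_mem hk (hZK.le hcZ)
        have hcN : c ∈ N := (Subgroup.mem_inf.1 hc).1
        have hcK := not_centK_of_mem_C h hB hα K hZK hKN hmin hab hp hexp hu₀ hu₀K hc hcZ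
        -- the map `y ↦ y * c * y⁻¹ * c⁻¹` on the image of `K` is injective, hence surjective
        let Kb : Subgroup (↥N ⧸ Subgroup.center ↥N) := (K.subgroupOf N).map (qn N)
        let cb : ↥N ⧸ Subgroup.center ↥N := qn N ⟨c, hcN⟩
        let f : ↥Kb → ↥Kb := fun y =>
          ⟨(y : ↥N ⧸ Subgroup.center ↥N) * cb * (y : ↥N ⧸ Subgroup.center ↥N)⁻¹ * cb⁻¹, by
            have h1 : cb * (y : ↥N ⧸ Subgroup.center ↥N)⁻¹ * cb⁻¹ ∈ Kb :=
              hKbn.conj_mem _ (inv_mem y.2) cb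
            have h2 : (y : ↥N ⧸ Subgroup.center ↥N) * cb * (y : ↥N ⧸ Subgroup.center ↥N)⁻¹ * cb⁻¹
                = (y : ↥N ⧸ Subgroup.center ↥N) * (cb * (y : ↥N ⧸ Subgroup.center ↥N)⁻¹ * cb⁻¹) := by
              group
            rw [h2]
            exact mul_mem y.2 h1⟩
        have hfinj : Function.Injective f := by
          intro y₁ y₂ hy
          have h1 : (y₁ : ↥N ⧸ Subgroup.center ↥N) * cb * (y₁ : ↥N ⧸ Subgroup.center ↥N)⁻¹ * cb⁻¹ =
              (y₂ : ↥N ⧸ Subgroup.center ↥N) * cb * (y₂ : ↥N ⧸ Subgroup.center ↥N)⁻¹ * cb⁻¹ :=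
            congrArg Subtype.val hy
          have h2 : ((y₂ : ↥N ⧸ Subgroup.center ↥N)⁻¹ * y₁) * cb =
              cb * ((y₂ : ↥N ⧸ Subgroup.center ↥N)⁻¹ * y₁) := by
            have h3 := mul_right_cancel h1
            calc ((y₂ : ↥N ⧸ Subgroup.center ↥N)⁻¹ * y₁) * cb
                = (y₂ : ↥N ⧸ Subgroup.center ↥N)⁻¹ *
                  ((y₁ : ↥N ⧸ Subgroup.center ↥N) * cb * (y₁ : ↥N ⧸ Subgroup.center ↥N)⁻¹) * y₁ := by
                  group
              _ = (y₂ : ↥N ⧸ Subgroup.center ↥N)⁻¹ *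
                  ((y₂ : ↥N ⧸ Subgroup.center ↥N) * cb * (y₂ : ↥N ⧸ Subgroup.center ↥N)⁻¹) * y₁ := by
                  rw [h3]
              _ = cb * ((y₂ : ↥N ⧸ Subgroup.center ↥N)⁻¹ * y₁) := by group
          have h4 := quot_fpf h hα K hZK hKN hmin hab (mul_mem (inv_mem y₂.2) y₁.2)
            (c := ⟨c, hcN⟩) hcK h2
          apply Subtype.ext
          have : (y₁ : ↥N ⧸ Subgroup.center ↥N) =
              y₂ * ((y₂ : ↥N ⧸ Subgroup.center ↥N)⁻¹ * y₁) := by group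
          rw [this, h4, mul_one]
        have hfsurj : Function.Surjective f := Finite.injective_iff_surjective.1 hfinj
        have hkb : qn N ⟨k, hKN hk⟩ ∈ Kb := (hKb _).2 hk
        obtain ⟨y, hy⟩ := hfsurj ⟨qn N ⟨k, hKN hk⟩, hkb⟩
        have hy' : (y : ↥N ⧸ Subgroup.center ↥N) * cb * (y : ↥N ⧸ Subgroup.center ↥N)⁻¹ * cb⁻¹ =
            qn N ⟨k, hKN hk⟩ := congrArg Subtype.val hy
        apply hx (y : ↥N ⧸ Subgroup.center ↥N)
        rw [Subgroup.mem_smul_pointwise_iff_exists]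
        refine ⟨cb, (hQb _).2 hc, ?_⟩
        rw [MulAut.smul_def, MulAut.conj_apply]
        have hn' : n = (⟨k, hKN hk⟩ : ↥N) * ⟨c, hcN⟩ := Subtype.ext hnkc
        rw [hn', map_mul, ← hy']
        show (y : ↥N ⧸ Subgroup.center ↥N) * cb * (y : ↥N ⧸ Subgroup.center ↥N)⁻¹ =
          (y : ↥N ⧸ Subgroup.center ↥N) * cb * (y : ↥N ⧸ Subgroup.center ↥N)⁻¹ * cb⁻¹ * cb
        group
  · -- elementary abelian
    constructor
    · refine ⟨⟨fun a b => ?_⟩⟩
      obtain ⟨a, ha⟩ := a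
      obtain ⟨b, hb⟩ := b
      obtain ⟨ka, hka, rfl⟩ := Subgroup.mem_map.1 ha
      obtain ⟨kb, hkb, rfl⟩ := Subgroup.mem_map.1 hb
      apply Subtype.ext
      show qn N ka * qn N kb = qn N kb * qn N ka
      rw [← map_mul, ← map_mul]
      congr 1
      apply Subtype.ext
      exact hab _ (Subgroup.mem_subgroupOf.1 hka) _ (Subgroup.mem_subgroupOf.1 hkb)
    · intro a ha
      obtain ⟨k, hk, rfl⟩ := Subgroup.mem_map.1 ha
      rw [← map_pow, qn_eq_one_iff]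
      exact hexp _ (Subgroup.mem_subgroupOf.1 hk)

end Cfsg.Agent.Helper11.RelMax
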