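/-
helper11: S3905, preparation lemmas for the case of a nonabelian minimal normal subgroup `K`
(to be killed with the Glauberman-Thompson theorem applied to `K / Z(N)`).
-/
import Cfsg.Agent.Helper11.RelMax.Frob1

set_option autoImplicit false
set_option linter.unusedSectionVars false
set_option linter.unusedVariables false
set_option linter.style.haveILetI false

namespace Cfsg.Agent.Helper11.RelMax

variable {G : Type*} [Group G] [Finite G] {N : Subgroup G} [N.Normal]

/-- the image of a coatom containing the kernel is a coatom -/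
theorem isCoatom_map_qz {M : Subgroup G} (hM : IsCoatom M) (hZ : ZN N ≤ M) :
    IsCoatom (M.map (qz N)) := by
  have hsurj : Function.Surjective (qz N) := QuotientGroup.mk'_surjective _
  have hcm : (M.map (qz N)).comap (qz N) = M := by
    rw [Subgroup.comap_map_eq, QuotientGroup.ker_mk']
    exact sup_eq_left.2 hZ
  constructor
  · intro h'
    apply hM.1
    rw [← hcm, h', Subgroup.comap_top]
  · intro X hX
    have h1 : M ≤ X.comap (qz N) := by
      rw [← hcm]; exact Subgroup.comap_mono hX.le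
    rcases hM.le_iff.1 h1 with h2 | h2
    · rw [← Subgroup.map_comap_eq_self_of_surjective hsurj X, h2,
        Subgroup.map_top_of_surjective _ hsurj]
    · exfalso
      apply hX.ne
      rw [← Subgroup.map_comap_eq_self_of_surjective hsurj X, h2]

section GT

variable (h : Hyp N) (hB : ZN N ≤ Subgroup.center G)
  (hα : ∀ x ∈ N, x ∉ Subgroup.centralizer (N : Set G) → ∀ g : G, g * x * g⁻¹ * x⁻¹ ∈ ZN N →
      g * x = x * g)
  (K : Subgroup G) [K.Normal] (hZK : ZN N < K) (hKN : K ≤ N)
  (hmin : ∀ L : Subgroup G, L.Normal → ZN N < L → L ≤ K → L = K)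
  (hnab : ∃ a ∈ K, ∃ b ∈ K, a * b ≠ b * a)

include hZK hmin in
/-- a normal subgroup of `G` between `Z(N)` and `K` is one of the two -/
theorem eq_or_eq_of_normal_between (Y : Subgroup G) (hYn : Y.Normal) (hZY : ZN N ≤ Y)
    (hYK : Y ≤ K) : Y = ZN N ∨ Y = K := by
  rcases hZY.eq_or_lt with h1 | h1
  · left; exact h1.symm
  · right; exact hmin Y hYn h1 hYK

include hZK hKN hmin hnab in
/-- (GT0a) `Z(K) = Z(N)` -/
theorem K_inf_centralizer_eq : K ⊓ Subgroup.centralizer (K : Set G) = ZN N := by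
  have hn : (K ⊓ Subgroup.centralizer (K : Set G)).Normal := inferInstance
  have hZ : ZN N ≤ K ⊓ Subgroup.centralizer (K : Set G) := by
    refine le_inf hZK.le ?_
    intro z hz
    exact Subgroup.centralizer_le (show (K : Set G) ⊆ N from hKN) ((mem_ZN N).1 hz).2
  rcases eq_or_eq_of_normal_between K hZK hmin _ hn hZ inf_le_left with h1 | h1
  · exact h1
  · exfalso
    obtain ⟨a, ha, b, hb, hab⟩ := hnab
    have : b ∈ K ⊓ Subgroup.centralizer (K : Set G) := by rw [h1]; exact hb
    exact hab ((Subgroup.mem_centralizer_iff.1 (Subgroup.mem_inf.1 this).2) a ha)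

include hα hZK hKN hmin hnab in
/-- (GT0b) no element of `K` outside `Z(N)` is central in `K` modulo `Z(N)` -/
theorem not_central_mod {k : G} (hk : k ∈ K) (hkZ : k ∉ ZN N) :
    ∃ k' ∈ K, k' * k * k'⁻¹ * k⁻¹ ∉ ZN N := by
  by_contra hcon
  push Not at hcon
  apply hkZ
  rw [← K_inf_centralizer_eq K hZK hKN hmin hnab]
  refine Subgroup.mem_inf.2 ⟨hk, ?_⟩
  rw [Subgroup.mem_centralizer_iff]
  intro k' hk'
  exact hα k (hKN hk) (not_centN_of_mem_K K hKN hk hkZ) k' (hcon k' hk')

include hα hZK hKN hmin hnab in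
/-- (GT0c) a normal subgroup of `G` strictly between `Z(N)` and `K` (inclusive of `K`) cannot be
abelian modulo `Z(N)` -/
theorem not_comm_mod (T : Subgroup G) (hTn : T.Normal) (hZT : ZN N < T) (hTK : T ≤ K)
    (hcomm : ∀ a ∈ T, ∀ b ∈ T, a * b * a⁻¹ * b⁻¹ ∈ ZN N) : False := by
  have hTeq := hmin T hTn hZT hTK
  obtain ⟨a, ha, b, hb, hab⟩ := hnab
  rw [← hTeq] at ha hb
  by_cases hbZ : b ∈ ZN N
  · exact hab (comm_of_mem_ZN hbZ (hKN (hTK ha)))
  · have hbK : b ∈ K := hTK hb
    exact hab (hα b (hKN hbK) (not_centN_of_mem_K K hKN hbK hbZ) a (hcomm a ha b hb))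

include hα hKN in
/-- (GT0f) commuting modulo `Z(N)` with a noncentral element of `K` means commuting -/
theorem mem_cz_of_qz_comm {z n : G} (hz : z ∈ K) (hzZ : z ∉ ZN N)
    (hc : qz N n * qz N z = qz N z * qz N n) : n ∈ cz z := by
  rw [mem_cz]
  apply hα z (hKN hz) (not_centN_of_mem_K K hKN hz hzZ) n
  rw [← qz_eq_one_iff, map_mul, map_mul, map_mul, map_inv, map_inv, hc]
  group

include h hB hKN in
/-- (GT0g) the image of `C_K(z)` in `G / Z(N)` is nilpotent -/
theorem isNilpotent_map_inf_cz {z : G} (hz : z ∈ K) (hzZ : z ∉ ZN N) :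
    Group.IsNilpotent ↥((K ⊓ cz z).map (qz N)) := by
  have hzN := hKN hz
  have hzc := not_centN_of_mem_K K hKN hz hzZ
  haveI h1 : Group.IsNilpotent ↥(N ⊓ cz z) := isNilpotent_inf_cz hB h hzN hzc
  have hle : K ⊓ cz z ≤ N ⊓ cz z := inf_le_inf_right _ hKN
  haveI h2 : Group.IsNilpotent ↥(K ⊓ cz z) :=
    Group.nilpotent_of_mulEquiv (Subgroup.subgroupOfEquivOfLe hle)
  let f : ↥(K ⊓ cz z) →* ↥((K ⊓ cz z).map (qz N)) := (qz N).subgroupMap (K ⊓ cz z)
  exact Group.nilpotent_of_surjective f ((qz N).subgroupMap_surjective (K ⊓ cz z))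

end GT

end Cfsg.Agent.Helper11.RelMax
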